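import Cfsg.Agent.Lib.RelDegree.Graph
import Cfsg.Agent.Lib.Glauberman.CoprimeDegree

/-!
# The shapes of the components of a disconnected relative degree graph

For a solvable normal subgroup `N ≤ G'` we show that the degrees over nonlinear characters of `N`
which are prime to `|N : N'|` all share one prime, or else are joined to a degree that is not prime
to `|N : N'|`; degrees over linear characters are joined through hubs.
-/

set_option autoImplicit false
set_option linter.unusedSectionVars false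
set_option linter.style.haveILetI false

namespace Cfsg.Agent.Lib.RelDegree

open Cfsg Cfsg.Agent.Lib.Characters

universe u

attribute [local instance] linAction

section Nilpotent

variable {M : Type u} [Group M] [Finite M]

/-- In a finite nilpotent group every prime divisor of the order divides the index of the derived
subgroup. -/
theorem prime_dvd_index_of_nilpotent [Group.IsNilpotent M] {q : ℕ} (hq : q.Prime)
    (hd : q ∣ Nat.card M) : q ∣ (commutator M).index := by
  classical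
  haveI := Fact.mk hq
  obtain ⟨e⟩ := ((Group.isNilpotent_of_finite_tfae (G := M)).out 0 4).mp (inferInstance : Group.IsNilpotent M)
  let i : (Nat.card M).primeFactors := ⟨q, Nat.mem_primeFactors.mpr ⟨hq, hd, Nat.card_pos.ne'⟩⟩
  let P : Sylow q M := default
  let f : M →* (P : Subgroup M) :=
    ((Pi.evalMonoidHom (fun Q : Sylow q M => ↥(Q : Subgroup M)) P).comp
      (Pi.evalMonoidHom (fun p : (Nat.card M).primeFactors =>
        ∀ Q : Sylow (p : ℕ) M, ↥(Q : Subgroup M)) i)).comp e.symm.toMonoidHom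
  have hf : Function.Surjective f :=
    ((Function.surjective_eval (β := fun Q : Sylow q M => ↥(Q : Subgroup M)) P).comp
      (Function.surjective_eval (β := fun p : (Nat.card M).primeFactors =>
        ∀ Q : Sylow (p : ℕ) M, ↥(Q : Subgroup M)) i)).comp e.symm.surjective
  haveI : Nontrivial (P : Subgroup M) :=
    (Subgroup.nontrivial_iff_ne_bot _).mpr (P.ne_bot_of_dvd_card hd)
  haveI : Group.IsNilpotent (P : Subgroup M) := P.isPGroup'.isNilpotent
  have hlt : commutator (P : Subgroup M) ≠ ⊤ :=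
    (Group.IsSolvable.commutator_lt_top_of_nontrivial _).ne
  obtain ⟨c, hc⟩ := IsPGroup.iff_card.mp P.isPGroup'
  obtain ⟨j, -, hj⟩ := (Nat.dvd_prime_pow hq).mp
    (hc ▸ Subgroup.index_dvd_card (commutator (P : Subgroup M)))
  have hj0 : j ≠ 0 := fun h0 => hlt (Subgroup.index_eq_one.mp (by rw [hj, h0, pow_zero]))
  refine (dvd_pow_self q hj0).trans (hj ▸ ?_)
  have hmap : (commutator M).map f = commutator (P : Subgroup M) := by
    rw [map_commutator_eq, MonoidHom.range_eq_top.mpr hf]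
    rfl
  exact hmap ▸ Subgroup.index_map_dvd _ hf

variable (M)

/-- The nilpotent residual of a finite group. -/
theorem exists_residual : ∃ H : Subgroup M, H.Normal ∧ ⁅H, (⊤ : Subgroup M)⁆ = H ∧
    ∀ q : ℕ, q.Prime → q ∣ H.index → q ∣ (commutator M).index := by
  classical
  have hanti : Antitone (⊤ : Subgroup M).lowerCentralSeries := Subgroup.lowerCentralSeries_antitone _
  obtain ⟨n, hn⟩ : ∃ n, (⊤ : Subgroup M).lowerCentralSeries (n + 1) =
      (⊤ : Subgroup M).lowerCentralSeries n := by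
    obtain ⟨a, b, hab, hne⟩ := Finite.exists_ne_map_eq_of_infinite
      (⊤ : Subgroup M).lowerCentralSeries
    rcases lt_or_gt_of_ne hab with h | h
    · exact ⟨a, le_antisymm (hanti a.le_succ) ((le_of_eq hne).trans (hanti h))⟩
    · exact ⟨b, le_antisymm (hanti b.le_succ) ((le_of_eq hne.symm).trans (hanti h))⟩
  set H := (⊤ : Subgroup M).lowerCentralSeries n with hH
  haveI hHn : H.Normal := by rw [hH]; infer_instance
  refine ⟨H, hHn, (Subgroup.lowerCentralSeries_succ (⊤ : Subgroup M) n).symm.trans hn, fun q hq hqd => ?_⟩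
  haveI : Group.IsNilpotent (M ⧸ H) := by
    refine Subgroup.nilpotent_iff_lowerCentralSeries.mpr ⟨n, ?_⟩
    have h := Subgroup.map_lowerCentralSeries (S := (⊤ : Subgroup M)) (QuotientGroup.mk' H) n
    rw [Subgroup.map_top_of_surjective _ (QuotientGroup.mk'_surjective H)] at h
    rw [← h, ← hH, QuotientGroup.map_mk'_self]
  have h1 := prime_dvd_index_of_nilpotent (M := M ⧸ H) hq (Subgroup.index_eq_card H ▸ hqd)
  refine h1.trans ?_
  have hmap : (commutator M).map (QuotientGroup.mk' H) = commutator (M ⧸ H) := by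
    rw [map_commutator_eq, MonoidHom.range_eq_top.mpr (QuotientGroup.mk'_surjective H)]
    rfl
  exact hmap ▸ Subgroup.index_map_dvd _ (QuotientGroup.mk'_surjective H)

end Nilpotent

/-- An irreducible character of degree greater than one is not constant. -/
theorem ne_const_of_one_lt {M : Type u} [Group M] {N : Subgroup M} [Fintype N] {θ : N → ℂ}
    (hθ : IsIrrCharacter N θ) (hd : 1 < charDegree θ) : ∃ n, θ n ≠ θ 1 := by
  by_contra h
  push Not at h
  exact hd.ne' (degree_eq_one_of_const hθ h)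

variable {G : Type u} [Group G] {N : Subgroup G} [N.Normal]

theorem degree_dvd_of_constituent [Fintype G] [Fintype N] {χ : G → ℂ} (hχ : IsIrrCharacter G χ)
    {θ : N → ℂ} (hθ : IsIrrCharacter N θ) (hc : classInner (fun n : N => χ n) θ ≠ 0) :
    (inertia N θ).index * charDegree θ ∣ charDegree χ := by
  obtain ⟨e, he⟩ := IsCharacter.exists_classInner_nat
    (IsCharacter.restrict (IsIrrCharacter.isCharacter hχ) N) (IsIrrCharacter.isCharacter hθ)
  have h := degree_eq N hχ hθ hc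
  rw [he, BlockHeights.apply_one_eq_charDegree (IsIrrCharacter.isCharacter hχ),
    BlockHeights.apply_one_eq_charDegree (IsIrrCharacter.isCharacter hθ)] at h
  have h' : charDegree χ = e * (inertia N θ).index * charDegree θ := by exact_mod_cast h
  rw [h', mul_assoc]
  exact dvd_mul_left _ _

/-- A degree over a non-constant character of `N`. -/
theorem exists_vertex_over [Fintype G] [Fintype N] {θ : N → ℂ} (hθ : IsIrrCharacter N θ)
    (hne : ∃ n, θ n ≠ θ 1) :
    ∃ w : ↥(relCharDegrees N), charDegree θ ∣ (w : ℕ) ∧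
      ∀ δ : ↥N →* ℂˣ, (∀ n, detChar θ n = (δ n : ℂ)) →
        ∀ (r : ℕ) [Fact r.Prime] (k : ℕ), (∀ μ : ↥N →* ℂˣ, (μ ^ k) ^ rExp N r = 1) →
          hub r (δ ^ k) ∣ (w : ℕ) := by
  obtain ⟨χ, hχ⟩ := exists_over (G := G) hθ
  exact ⟨⟨_, mem_of_over hθ hne hχ⟩,
    (dvd_mul_left _ _).trans (degree_dvd_of_constituent χ.2 hθ hχ),
    fun δ hδ r _ k hk => hub_dvd χ.2 hθ hχ hδ hk⟩

/-- A degree over a twist with prescribed `s`-part of the determinant. -/
theorem exists_twist_vertex [Fintype G] [Fintype N] {s : ℕ} [hs : Fact s.Prime] {θ : N → ℂ}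
    (hθ : IsIrrCharacter N θ) (hd : 1 < charDegree θ) (hsd : ¬ s ∣ charDegree θ)
    {μ : ↥N →* ℂˣ} (hμ : μ ^ rExp N s = 1) :
    ∃ w : ↥(relCharDegrees N), charDegree θ ∣ (w : ℕ) ∧ hub s μ ∣ (w : ℕ) := by
  classical
  have hθc := IsIrrCharacter.isCharacter hθ
  obtain ⟨δ, hδ⟩ := exists_det hθc
  obtain ⟨k, hk, -, hz, -⟩ := exists_part N s
  set d := charDegree θ with hdd
  have hd0 : θ 1 = (d : ℂ) := BlockHeights.apply_one_eq_charDegree hθc
  obtain ⟨f, -, hf⟩ := Nat.exists_mul_mod_eq_one_of_coprime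
    (k := s ^ ((Nat.card N).factorization s + 1)) (n := d)
    (((hs.out.coprime_iff_not_dvd).mpr hsd).symm.pow_right _)
    (Nat.one_lt_pow (Nat.succ_ne_zero _) hs.out.one_lt)
  set lam : ↥N →* ℂˣ := (μ * (δ ^ k)⁻¹) ^ f with hlam
  have hθ' : IsIrrCharacter N (fun n => (lam n : ℂ) * θ n) := isIrrCharacter_twist lam hθ
  have hδ' : ∀ n, detChar (fun n => (lam n : ℂ) * θ n) n = (((lam ^ d) * δ) n : ℂ) := fun n => by
    rw [congrFun (detChar_twist lam hθc hd0) n, hδ]
    simp
  have hkey : (lam ^ d * δ) ^ k = μ := by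
    refine MonoidHom.ext fun n => ?_
    simp only [hlam, MonoidHom.pow_apply, MonoidHom.mul_apply, MonoidHom.inv_apply]
    set z := μ n * (δ n ^ k)⁻¹ with hzdef
    have hz' : z ^ rExp N s = 1 := by
      have x1 : μ n ^ rExp N s = 1 := DFunLike.congr_fun hμ n
      have x2 : (δ n ^ k) ^ rExp N s = 1 := DFunLike.congr_fun (hk δ) n
      rw [hzdef, mul_pow, inv_pow, x1, x2, inv_one, mul_one]
    have e1 : (z ^ f) ^ d = z := by
      have hz'' : z ^ s ^ ((Nat.card N).factorization s + 1) = 1 := by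
        rw [pow_succ, pow_mul]
        show (z ^ rExp N s) ^ s = 1
        rw [hz', one_pow]
      rw [← pow_mul, mul_comm f d, pow_eq_pow_mod _ hz'', hf, pow_one]
    rw [e1, mul_pow, hz z hz', hzdef, inv_mul_cancel_right]
  have hd' : charDegree (fun n => (lam n : ℂ) * θ n) = d :=
    charDegree_eq_of_apply_one (by simp [hd0])
  obtain ⟨w, hw, hw'⟩ := exists_vertex_over (G := G) hθ' (ne_const_of_one_lt hθ' (hd'.symm ▸ hd))
  exact ⟨w, hd' ▸ hw, hkey ▸ hw' _ hδ' s k hk⟩

/-- A degree prime to `|N : N'|` is divisible either by the degree of a nonlinear character of `N`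
or by the orbit length of an extendible linear character. -/
theorem linear_or_deep [Fintype G] [Fintype N] (u : ↥(relCharDegrees N))
    (hu : Nat.Coprime u (⁅N, N⁆.relIndex N)) :
    (∃ θ : IrrCharacter N, 1 < charDegree (θ : ↥N → ℂ) ∧ charDegree (θ : ↥N → ℂ) ∣ (u : ℕ)) ∨
    ∃ (s : ℕ) (ν : ↥N →* ℂˣ), s.Prime ∧ s ∣ ⁅N, N⁆.relIndex N ∧ ν ^ rExp N s = 1 ∧ ν ≠ 1 ∧
      Ext s ν ∧ (MulAction.stabilizer G ν).index ∣ (u : ℕ) := by
  classical
  obtain ⟨χ, hχN, hχd⟩ := u.2
  have hχc := irr_isCharacter χ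
  obtain ⟨θ, hθ⟩ := IsCharacter.exists_constituent (G := ↥N) (IsCharacter.restrict hχc N) (fun h0 => by
    have h1 := congrFun h0 1
    simp only [OneMemClass.coe_one, Pi.zero_apply] at h1
    exact IsIrrCharacter.apply_one_ne_zero χ.2 h1)
  have hθc := irr_isCharacter θ
  have hdu : charDegree (θ : ↥N → ℂ) ∣ (u : ℕ) :=
    hχd ▸ (dvd_mul_left _ _).trans (degree_dvd_of_constituent χ.2 θ.2 hθ)
  have hd0 := BlockHeights.apply_one_eq_charDegree hθc
  have hpos : 0 < charDegree (θ : ↥N → ℂ) := Nat.pos_of_ne_zero fun h0 =>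
    IsIrrCharacter.apply_one_ne_zero θ.2 (by rw [hd0, h0, Nat.cast_zero])
  by_cases hd : charDegree (θ : ↥N → ℂ) = 1
  swap
  · exact Or.inl ⟨θ, by omega, hdu⟩
  right
  obtain ⟨ω, hω⟩ := IsCharacter.exists_hom_of_apply_one hθc (by rw [hd0, hd, Nat.cast_one])
  have hδ : ∀ n, detChar (θ : ↥N → ℂ) n = (ω n : ℂ) := fun n => by
    rw [hω]
    exact congrFun (CharMisc.detChar_of_linear ω) n
  have hω1 : ω ≠ 1 := by
    rintro rfl
    obtain ⟨x, hx, hx'⟩ := hχN
    apply hx'
    have hconst : ∀ n, (θ : ↥N → ℂ) n = (θ : ↥N → ℂ) 1 := fun n => by simp [hω]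
    have hinv : ∀ g : G, conjFun N g (θ : ↥N → ℂ) = θ := fun g =>
      funext fun n => by rw [conjFun, hconst, hconst n]
    have hrest := restrict_eq_smul_of_invariant N χ.2 θ.2 hinv hθ
    have b1 := congrFun hrest ⟨x, hx⟩
    have b2 := congrFun hrest 1
    simp only [OneMemClass.coe_one, Pi.smul_apply] at b1 b2
    rw [b1, b2, hconst]
  obtain ⟨s, hs, hsd, hsk⟩ := exists_part_ne_one hω1
  haveI := Fact.mk hs
  obtain ⟨l, hl, -, hlz, -⟩ := exists_part N s
  have hub' : hub s (ω ^ l) ∣ (u : ℕ) := hχd ▸ hub_dvd χ.2 θ.2 hθ hδ hl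
  have hE : Ext s (ω ^ l) := by
    by_contra hE
    rw [hub_of_not hE] at hub'
    exact hs.ne_one (Nat.eq_one_of_dvd_coprimes hu hub' hsd)
  exact ⟨s, ω ^ l, hs, hsd, hl ω, hsk l hlz, hE, hub_of_ext hE ▸ hub'⟩

/-- For solvable `N`, there is a prime `p` such that every nonlinear character of `N` of degree
prime to `|N : N'|` and to `p` shares its degree with a vertex not prime to `|N : N'|`. -/
theorem exists_deep_prime [Fintype G] [Fintype N] [Group.IsSolvable N] :
    ∃ p : ℕ, p.Prime ∧ ∀ θ : IrrCharacter N, 1 < charDegree (θ : ↥N → ℂ) →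
      Nat.Coprime (charDegree (θ : ↥N → ℂ)) (⁅N, N⁆.relIndex N) → ¬ p ∣ charDegree (θ : ↥N → ℂ) →
      ∃ w : ↥(relCharDegrees N), charDegree (θ : ↥N → ℂ) ∣ (w : ℕ) ∧
        ∃ r : ℕ, r.Prime ∧ r ∣ ⁅N, N⁆.relIndex N ∧ r ∣ (w : ℕ) := by
  classical
  obtain ⟨H, hHn, hHcom, hHidx⟩ := exists_residual ↥N
  rw [← relIndex_derived] at hHidx
  have hcopH : ∀ d : ℕ, Nat.Coprime d (⁅N, N⁆.relIndex N) → Nat.Coprime d H.index :=
    fun d hd => Nat.coprime_of_dvd fun q hq h1 h2 =>
      hq.ne_one (Nat.eq_one_of_dvd_coprimes hd h1 (hHidx q hq h2))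
  haveI := Fintype.ofFinite H
  by_cases hbot : H = ⊥
  · refine ⟨2, Nat.prime_two, fun θ hd hcop _ => absurd ?_ hd.ne'⟩
    have h1 := hcopH _ hcop
    rw [hbot, Subgroup.index_bot] at h1
    exact Nat.eq_one_of_dvd_coprimes h1 dvd_rfl (Cfsg.Agent.Lib.Blocks.charDegree_dvd_card θ)
  haveI : Nontrivial H := (Subgroup.nontrivial_iff_ne_bot _).mpr hbot
  have he : ⁅H, H⁆.relIndex H ≠ 1 := by
    rw [relIndex_derived, Ne, Subgroup.index_eq_one]
    exact (Group.IsSolvable.commutator_lt_top_of_nontrivial _).ne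
  obtain ⟨p, hp, hpd⟩ := Nat.exists_prime_and_dvd he
  haveI := Fact.mk hp
  refine ⟨p, hp, fun θ hd hcop hpθ => ?_⟩
  obtain ⟨ν, hν, hν1⟩ := exists_lin (N := H) hp hpd
  obtain ⟨φ, hφinv, hφ⟩ :=
    Glauberman.exists_restrict_eq_of_degree_coprime H θ (hcopH _ hcop)
  have hφc := irr_isCharacter φ
  set d := charDegree (θ : ↥N → ℂ) with hdd
  have hd0 : (φ : H → ℂ) 1 = (d : ℂ) := by
    rw [← hφ 1, OneMemClass.coe_one, BlockHeights.apply_one_eq_charDegree (irr_isCharacter θ)]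
  -- `ν` is not invariant
  obtain ⟨n, hn⟩ : ∃ n : ↥N, n • ν ≠ ν := by
    by_contra h
    push Not at h
    apply hν1
    have hle : ⁅H, (⊤ : Subgroup ↥N)⁆ ≤ ν.ker.map H.subtype := by
      rw [Subgroup.commutator_le]
      intro x hx g _
      have hmem : (x * g * x⁻¹ * g⁻¹) ∈ H := hHcom.le (by simpa [commutatorElement_def] using Subgroup.commutator_mem_commutator hx (Subgroup.mem_top g))
      refine ⟨⟨(x * g * x⁻¹ * g⁻¹), hmem⟩, ?_, rfl⟩
      have h2 := DFunLike.congr_fun (h g⁻¹) ⟨x, hx⟩⁻¹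
      rw [smul_apply, inv_inv] at h2
      have h3 : (⟨(x * g * x⁻¹ * g⁻¹), hmem⟩ : H) = ⟨x, hx⟩ * (MulAut.conjNormal g : MulAut H) ⟨x, hx⟩⁻¹ :=
        Subtype.ext (by simp [mul_assoc])
      rw [SetLike.mem_coe, MonoidHom.mem_ker, h3, map_mul, h2, ← map_mul, mul_inv_cancel, map_one]
    rw [hHcom] at hle
    refine MonoidHom.ext fun x => ?_
    obtain ⟨y, hy, hyx⟩ := hle x.2
    rw [← Subtype.ext hyx]
    exact MonoidHom.mem_ker.mp hy
  set ξ : H → ℂ := fun x => (ν x : ℂ) * (φ : H → ℂ) x with hξdef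
  have hξ : IsIrrCharacter H ξ := isIrrCharacter_twist ν φ.2
  -- `ξ` is not invariant
  have hI : inertia H ξ ≠ ⊤ := by
    intro htop
    apply hn
    have hmem : n⁻¹ ∈ inertia H ξ := htop ▸ Subgroup.mem_top _
    have hfix := (mem_inertia_iff H).mp hmem
    have hconj : conjFun H n⁻¹ ξ = fun x => ((n • ν) x : ℂ) * (φ : H → ℂ) x := by
      funext x
      have h1 := congrFun (hφinv n⁻¹) x
      rw [conjFun_eq_comp] at h1 ⊢
      simp only [hξdef, Function.comp_apply] at h1 ⊢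
      rw [h1, smul_apply]
    rw [hconj] at hfix
    obtain ⟨δ, hδ⟩ := exists_det hφc
    have hpow : ∀ x, (n • ν) x ^ d = ν x ^ d := fun x => by
      have h1 := congrFun (congrArg detChar hfix) x
      rw [congrFun (detChar_twist (n • ν) hφc hd0) x, hξdef,
        congrFun (detChar_twist ν hφc hd0) x] at h1
      simp only [hδ, ← Units.val_pow_eq_pow_val, ← Units.val_mul] at h1
      exact mul_right_cancel (Units.ext h1)
    refine MonoidHom.ext fun x => mul_inv_eq_one.mp ?_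
    have hcop' : Nat.Coprime d (rExp H p) :=
      ((hp.coprime_iff_not_dvd).mpr hpθ).symm.pow_right _
    refine Harada.eq_one_of_pow_eq_one hcop' ?_ ?_
    · rw [mul_pow, hpow, inv_pow, mul_inv_cancel]
    · rw [mul_pow, inv_pow, smul_apply]
      have h1 : ∀ y : H, ν y ^ rExp H p = 1 := fun y => DFunLike.congr_fun hν y
      rw [h1, h1, inv_one, mul_one]
  obtain ⟨r, hr, hrI⟩ := Nat.exists_prime_and_dvd (fun h => hI (Subgroup.index_eq_one.mp h))
  have hrm : r ∣ ⁅N, N⁆.relIndex N := hHidx r hr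
    (hrI.trans (Subgroup.index_dvd_of_le (le_inertia H (IsCharacter.isClassFunction (IsIrrCharacter.isCharacter hξ)))))
  obtain ⟨η, hη⟩ := exists_over (G := ↥N) hξ
  have hξd : charDegree ξ = d := charDegree_eq_of_apply_one (by simp [hξdef, hd0])
  have hηd := degree_dvd_of_constituent η.2 hξ hη
  rw [hξd] at hηd
  have hη1 : 1 < charDegree (η : ↥N → ℂ) := by
    refine hd.trans_le (Nat.le_of_dvd (Nat.pos_of_ne_zero fun h0 => ?_) ((dvd_mul_left _ _).trans hηd))
    exact IsIrrCharacter.apply_one_ne_zero η.2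
      (by rw [BlockHeights.apply_one_eq_charDegree (irr_isCharacter η), h0, Nat.cast_zero])
  obtain ⟨w, hw, -⟩ := exists_vertex_over (G := G) η.2 (ne_const_of_one_lt η.2 hη1)
  exact ⟨w, ((dvd_mul_left _ _).trans hηd).trans hw, r, hr, hrm,
    (hrI.trans (dvd_mul_right _ _)).trans (hηd.trans hw)⟩

local notation "Γ" => Cfsg.commonDivisorGraph.induce (Cfsg.relCharDegrees N)

/-- Degrees outside the component of `a₀` are adjacent or have a common neighbour. -/
theorem adj_or_common [Finite G] (hNG : N ≤ commutator G) [Group.IsSolvable N]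
    {a₀ : ↥(relCharDegrees N)}
    (hA : ∀ (x : ↥(relCharDegrees N)) (r : ℕ), r.Prime → r ∣ ⁅N, N⁆.relIndex N → r ∣ (x : ℕ) →
      SimpleGraph.Reachable Γ a₀ x)
    (u v : ↥(relCharDegrees N)) (hu : ¬ SimpleGraph.Reachable Γ a₀ u)
    (hv : ¬ SimpleGraph.Reachable Γ a₀ v) (huv : u ≠ v) :
    SimpleGraph.Adj Γ u v ∨ ∃ w, SimpleGraph.Adj Γ u w ∧ SimpleGraph.Adj Γ w v := by
  classical
  haveI := Fintype.ofFinite G
  haveI := Fintype.ofFinite N
  have hcop : ∀ x : ↥(relCharDegrees N), ¬ SimpleGraph.Reachable Γ a₀ x →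
      Nat.Coprime (x : ℕ) (⁅N, N⁆.relIndex N) := fun x hx =>
    Nat.coprime_of_dvd fun r hr h1 h2 => hx (hA x r hr h2 h1)
  have adj : ∀ (x y : ↥(relCharDegrees N)) (g : ℕ), x ≠ y → 1 < g → g ∣ (x : ℕ) → g ∣ (y : ℕ) →
      SimpleGraph.Adj Γ x y := fun x y g hne hg hx hy =>
    ⟨fun e => hne (Subtype.ext e), hg.trans_le
      (Nat.le_of_dvd (Nat.gcd_pos_of_pos_left _ (pos_of_mem x)) (Nat.dvd_gcd hx hy))⟩
  have mid : ∀ (w : ↥(relCharDegrees N)) (g g' : ℕ), 1 < g → 1 < g' → g ∣ (u : ℕ) → g ∣ (w : ℕ) →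
      g' ∣ (v : ℕ) → g' ∣ (w : ℕ) →
      SimpleGraph.Adj Γ u v ∨ ∃ w, SimpleGraph.Adj Γ u w ∧ SimpleGraph.Adj Γ w v := by
    intro w g g' hg hg' hgu hgw hgv hgw'
    by_cases h1 : u = w
    · exact Or.inl (adj u v g' huv hg' (h1.symm ▸ hgw') hgv)
    by_cases h2 : w = v
    · exact Or.inl (adj u v g huv hg hgu (h2 ▸ hgw))
    exact Or.inr ⟨w, adj u w g h1 hg hgu hgw, adj w v g' h2 hg' hgw' hgv⟩
  obtain ⟨p, hp, hdeep⟩ := exists_deep_prime (G := G) (N := N)
  have hpd : ∀ x : ↥(relCharDegrees N), ¬ SimpleGraph.Reachable Γ a₀ x →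
      ∀ θ : IrrCharacter N, 1 < charDegree (θ : ↥N → ℂ) → charDegree (θ : ↥N → ℂ) ∣ (x : ℕ) →
      p ∣ charDegree (θ : ↥N → ℂ) := fun x hx θ hd hdx => by
    by_contra hpθ
    obtain ⟨w, hw, r, hr, hrm, hrw⟩ := hdeep θ hd ((hcop x hx).coprime_dvd_left hdx) hpθ
    exact hx ((hA w r hr hrm hrw).trans (reach_of_dvd w x hd hw hdx (pos_of_mem w)))
  have hns : ∀ (x : ↥(relCharDegrees N)), ¬ SimpleGraph.Reachable Γ a₀ x → ∀ (d s : ℕ), d ∣ (x : ℕ) →
      s.Prime → s ∣ ⁅N, N⁆.relIndex N → ¬ s ∣ d := fun x hx d s hdx hs hsm hsd =>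
    hs.ne_one (Nat.eq_one_of_dvd_coprimes (hcop x hx) (hsd.trans hdx) hsm)
  rcases linear_or_deep u (hcop u hu) with ⟨θ, hθ1, hθu⟩ | ⟨s, ν, hs, hsm, hν, hν1, hνE, hνu⟩ <;>
  rcases linear_or_deep v (hcop v hv) with ⟨η, hη1, hηv⟩ | ⟨t, μ, ht, htm, hμ, hμ1, hμE, hμv⟩
  · exact Or.inl (adj u v p huv hp.one_lt ((hpd u hu θ hθ1 hθu).trans hθu)
      ((hpd v hv η hη1 hηv).trans hηv))
  · haveI := Fact.mk ht
    obtain ⟨w, hw1, hw2⟩ := exists_twist_vertex (G := G) θ.2 hθ1 (hns u hu _ t hθu ht htm) hμ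
    have h1 := one_lt_hub hNG hμ hμ1
    rw [hub_of_ext hμE] at hw2 h1
    exact mid w _ _ hθ1 h1 hθu hw1 hμv hw2
  · haveI := Fact.mk hs
    obtain ⟨w, hw1, hw2⟩ := exists_twist_vertex (G := G) η.2 hη1 (hns v hv _ s hηv hs hsm) hν
    have h1 := one_lt_hub hNG hν hν1
    rw [hub_of_ext hνE] at hw2 h1
    exact mid w _ _ h1 hη1 hνu hw2 hηv hw1
  · haveI := Fact.mk hs
    haveI := Fact.mk ht
    have a1 := one_lt_hub hNG hν hν1
    have a2 := one_lt_hub hNG hμ hμ1
    rw [hub_of_ext hνE] at a1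
    rw [hub_of_ext hμE] at a2
    by_cases hst : s = t
    · subst hst
      by_cases hc : (MulAction.stabilizer G ν).index.Coprime (MulAction.stabilizer G μ).index
      swap
      · refine Or.inl (adj u v _ huv ?_ ((Nat.gcd_dvd_left _ _).trans hνu)
          ((Nat.gcd_dvd_right _ _).trans hμv))
        exact lt_of_le_of_ne (Nat.one_le_iff_ne_zero.mpr (Nat.gcd_ne_zero_left (by omega))) (Ne.symm hc)
      have hω : ν * μ ≠ 1 := fun e => by
        have e' : μ = ν⁻¹ := MonoidHom.ext fun n =>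
          (eq_inv_of_mul_eq_one_right (DFunLike.congr_fun e n : ν n * μ n = 1))
        have hst : MulAction.stabilizer G μ = MulAction.stabilizer G ν := by
          ext g
          rw [MulAction.mem_stabilizer_iff, MulAction.mem_stabilizer_iff, e', smul_inv]
          exact inv_inj (G := ↥N →* ℂˣ)
        rw [hst, Nat.coprime_self] at hc
        omega
      obtain ⟨w, hw, -⟩ := exists_lin_vertex (G := G) hω
      have n2 := orbit_not_coprime hμ hνE hc (by omega)
      have n1 := orbit_not_coprime (ν := μ) (μ := ν) hν hμE hc.symm (by omega)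
      rw [mul_comm μ ν] at n1
      have g1 : ∀ {x y : ℕ}, y ≠ 0 → ¬ Nat.Coprime x y → 1 < Nat.gcd x y := fun {x y} hy hn =>
        lt_of_le_of_ne (Nat.one_le_iff_ne_zero.mpr (Nat.gcd_ne_zero_right hy)) (Ne.symm hn)
      exact mid w _ _ (g1 (by omega) n1) (g1 (by omega) n2) ((Nat.gcd_dvd_right _ _).trans hνu)
        ((Nat.gcd_dvd_left _ _).trans hw) ((Nat.gcd_dvd_right _ _).trans hμv)
        ((Nat.gcd_dvd_left _ _).trans hw)
    · obtain ⟨k, hk, hk', -, hk''⟩ := exists_part N s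
      obtain ⟨l, hl, hl', -, hl''⟩ := exists_part N t
      have e1 : (ν * μ) ^ k = ν := by
        refine MonoidHom.ext fun n => ?_
        have b1 := DFunLike.congr_fun (hk' ν hν) n
        have b2 := DFunLike.congr_fun (hk'' t ht (Ne.symm hst) μ hμ) n
        simp only [MonoidHom.pow_apply, MonoidHom.mul_apply, MonoidHom.one_apply] at b1 b2 ⊢
        rw [mul_pow, b1, b2, mul_one]
      have e2 : (ν * μ) ^ l = μ := by
        refine MonoidHom.ext fun n => ?_
        have b1 := DFunLike.congr_fun (hl' μ hμ) n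
        have b2 := DFunLike.congr_fun (hl'' s hs hst ν hν) n
        simp only [MonoidHom.pow_apply, MonoidHom.mul_apply, MonoidHom.one_apply] at b1 b2 ⊢
        rw [mul_pow, b1, b2, one_mul]
      have hω : ν * μ ≠ 1 := fun e => hν1 (by rw [← e1, e]; exact MonoidHom.ext fun _ => by simp)
      obtain ⟨w, -, hw⟩ := exists_lin_vertex (G := G) hω
      have b := hw s k hk
      have c := hw t l hl
      rw [e1, hub_of_ext hνE] at b
      rw [e2, hub_of_ext hμE] at c
      exact mid w _ _ a1 a2 hνu b hμv c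

end Cfsg.Agent.Lib.RelDegree
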