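import Mathlib
import Cfsg.Agent.Lib.Characters.Clifford
import Cfsg.Agent.Lib.Characters.ExtensionChar
import Cfsg.Agent.Lib.Characters.PPrimeDegree
import Cfsg.Agent.Lib.Harada.GoodChar
import Cfsg.Agent.Lib.CharMisc.ResidualCount
import Cfsg.Agent.Lib.BlockHeights.CharTools
import Cfsg.Agent.Lib.Solvable.Systems
import Cfsg.Agent.Lib.Solvable.Products

/-!
# Degrees over the linear characters of a normal subgroup inside the derived subgroup

For a normal subgroup `N ≤ G'` and an `r`-power linear character `ν` of `N` we define a number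
`hub r ν`, greater than one when `ν ≠ 1`, dividing the degree of every irreducible character of `G`
over a character `θ` of `N` whose determinant has `r`-part `ν`.
-/

set_option autoImplicit false

namespace Cfsg.Agent.Lib.RelDegree

open Cfsg Cfsg.Agent.Lib.Characters
open scoped Pointwise

universe u

variable {G : Type u} [Group G] {N : Subgroup G} [N.Normal]

/-- The action of `G` on linear characters of a normal subgroup. -/
@[reducible] def linAction (N : Subgroup G) [N.Normal] : MulAction G (↥N →* ℂˣ) where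
  smul g ν := ν.comp (MulAut.conjNormal g⁻¹ : MulAut N).toMonoidHom
  one_smul ν := by
    refine MonoidHom.ext fun n => ?_
    show ν ((MulAut.conjNormal (1 : G)⁻¹ : MulAut N) n) = ν n
    simp
  mul_smul g h ν := by
    refine MonoidHom.ext fun n => ?_
    show ν ((MulAut.conjNormal (g * h)⁻¹ : MulAut N) n) =
      ν ((MulAut.conjNormal h⁻¹ : MulAut N) ((MulAut.conjNormal g⁻¹ : MulAut N) n))
    rw [mul_inv_rev, map_mul]
    rfl

attribute [local instance] linAction

theorem smul_apply (g : G) (ν : ↥N →* ℂˣ) (n : N) :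
    (g • ν) n = ν ((MulAut.conjNormal g⁻¹ : MulAut N) n) := rfl

theorem smul_mul (g : G) (ν μ : ↥N →* ℂˣ) : g • (ν * μ) = (g • ν) * (g • μ) := rfl

theorem smul_inv (g : G) (ν : ↥N →* ℂˣ) : g • ν⁻¹ = (g • ν)⁻¹ := rfl

theorem smul_pow (g : G) (ν : ↥N →* ℂˣ) (k : ℕ) : g • (ν ^ k) = (g • ν) ^ k := rfl

/-- The linear character extends to `N R` for some Sylow `r`-subgroup `R`. -/
def Ext (r : ℕ) (ν : ↥N →* ℂˣ) : Prop :=
  ∃ (R : Sylow r G) (μ : ↥(N ⊔ (R : Subgroup G)) →* ℂˣ),
    ∀ n : N, μ (Subgroup.inclusion le_sup_left n) = ν n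

theorem Ext.smul [Finite G] {r : ℕ} [Fact r.Prime] {ν : ↥N →* ℂˣ} (h : Ext r ν) (g : G) :
    Ext r (g • ν) := by
  obtain ⟨R, μ, hμ⟩ := h
  obtain ⟨R', hR'⟩ : ∃ R' : Sylow r G, ∀ x ∈ (R' : Subgroup G), g⁻¹ * x * g ∈ (R : Subgroup G) := by
    refine ⟨g • R, fun x hx => ?_⟩
    have h1 : x ∈ MulAut.conj g • (R : Subgroup G) := hx
    rw [Subgroup.mem_pointwise_smul_iff_inv_smul_mem] at h1
    simpa [MulAut.smul_def, mul_assoc] using h1
  have hle : (N ⊔ (R' : Subgroup G)) ≤ (N ⊔ (R : Subgroup G)).comap (MulAut.conj g⁻¹).toMonoidHom := by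
    refine sup_le (fun x hx => ?_) fun x hx => ?_
    · exact Subgroup.mem_sup_left (by simpa using Subgroup.Normal.conj_mem ‹N.Normal› x hx g⁻¹)
    · exact Subgroup.mem_sup_right (by simpa using hR' x hx)
  let f : ↥(N ⊔ (R' : Subgroup G)) →* ↥(N ⊔ (R : Subgroup G)) :=
    ((MulAut.conj g⁻¹).toMonoidHom.comp (N ⊔ (R' : Subgroup G)).subtype).codRestrict _ fun x => hle x.2
  refine ⟨R', μ.comp f, fun n => ?_⟩
  rw [smul_apply, ← hμ, MonoidHom.comp_apply]
  congr 1

open Classical in
/-- A common divisor of all degrees over characters whose determinant has `r`-part `ν`. -/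
noncomputable def hub (r : ℕ) (ν : ↥N →* ℂˣ) : ℕ :=
  if Ext r ν then (MulAction.stabilizer G ν).index else r

theorem hub_of_ext {r : ℕ} {ν : ↥N →* ℂˣ} (h : Ext r ν) :
    hub r ν = (MulAction.stabilizer G ν).index := if_pos h

theorem hub_of_not {r : ℕ} {ν : ↥N →* ℂˣ} (h : ¬ Ext r ν) : hub r ν = r := if_neg h

theorem one_lt_hub [Finite G] (hNG : N ≤ commutator G) {r : ℕ} [hr : Fact r.Prime] {ν : ↥N →* ℂˣ}
    {a : ℕ} (hν : ν ^ r ^ a = 1) (h1 : ν ≠ 1) : 1 < hub r ν := by
  classical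
  by_cases hE : Ext r ν
  swap
  · rw [hub_of_not hE]
    exact hr.out.one_lt
  rw [hub_of_ext hE]
  have h0 : (MulAction.stabilizer G ν).index ≠ 0 := Subgroup.index_ne_zero_of_finite
  suffices (MulAction.stabilizer G ν).index ≠ 1 by omega
  intro hidx
  rw [Subgroup.index_eq_one] at hidx
  obtain ⟨R, μ, hμ⟩ := hE
  apply h1
  haveI : (N ⊔ (R : Subgroup G)).FiniteIndex := ⟨Subgroup.index_ne_zero_of_finite⟩
  have hinv : ∀ (g : G) (n : N), ν ((MulAut.conjNormal g : MulAut N) n) = ν n := fun g n => by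
    have h : g⁻¹ • ν = ν := MulAction.mem_stabilizer_iff.mp (hidx ▸ Subgroup.mem_top g⁻¹)
    have h2 := DFunLike.congr_fun h n
    rwa [smul_apply, inv_inv] at h2
  have hkey : ∀ n : N, ν n ^ (N ⊔ (R : Subgroup G)).index = 1 := by
    intro n
    have hc : MonoidHom.transfer μ (n : G) = 1 :=
      MonoidHom.mem_ker.mp (Abelianization.commutator_subset_ker _ (hNG n.2))
    let T : (N ⊔ (R : Subgroup G)).LeftTransversal := default
    rw [MonoidHom.transfer_def μ T] at hc
    rw [← hc]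
    unfold Subgroup.leftTransversals.diff
    letI := (N ⊔ (R : Subgroup G)).fintypeQuotientOfFiniteIndex
    symm
    rw [Finset.prod_eq_pow_card (b := ν n)]
    · rw [Finset.card_univ, ← Nat.card_eq_fintype_card, ← Subgroup.index_eq_card]
    intro q _
    obtain ⟨t, rfl⟩ := QuotientGroup.mk_surjective q
    have hfix : (n : G)⁻¹ • (QuotientGroup.mk t : G ⧸ (N ⊔ (R : Subgroup G))) = QuotientGroup.mk t := by
      refine QuotientGroup.eq.mpr (Subgroup.mem_sup_left ?_)
      have := Subgroup.Normal.conj_mem ‹N.Normal› _ n.2 t⁻¹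
      simpa [mul_assoc] using this
    set s : G := (T.2.leftQuotientEquiv (QuotientGroup.mk t) : G)
    have hs : ↑(T.2.leftQuotientEquiv ((n : G)⁻¹ • (QuotientGroup.mk t : G ⧸ (N ⊔ (R : Subgroup G))))) = s := by
      rw [hfix]
    have e : (((n : G) • T).2.leftQuotientEquiv (QuotientGroup.mk t) : G) = (n : G) * s := by
      have h2 := Subgroup.smul_apply_eq_smul_apply_inv_smul (n : G) T (QuotientGroup.mk t)
      rw [h2, hs, smul_eq_mul]
    rw [← hinv s⁻¹ n, ← hμ]
    refine congrArg (⇑μ) (Subtype.ext ?_)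
    simp [e, mul_assoc, s]
  have hcop : Nat.Coprime (N ⊔ (R : Subgroup G)).index (r ^ a) := by
    refine Nat.Coprime.pow_right _ ((hr.out.coprime_iff_not_dvd).mpr fun hd => ?_).symm
    exact R.not_dvd_index (hd.trans (Subgroup.index_dvd_of_le le_sup_right))
  refine MonoidHom.ext fun n => ?_
  exact Harada.eq_one_of_pow_eq_one hcop (hkey n) (DFunLike.congr_fun hν n)

/-- The determinant of a character as a homomorphism. -/
theorem exists_det [Finite G] {θ : N → ℂ} (hθ : IsCharacter N θ) :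
    ∃ δ : ↥N →* ℂˣ, ∀ n, detChar θ n = (δ n : ℂ) :=
  Harada.exists_detChar_hom hθ

theorem smul_det [Finite G] {θ : N → ℂ} (hθ : IsCharacter N θ) {δ : ↥N →* ℂˣ}
    (hδ : ∀ n, detChar θ n = (δ n : ℂ)) (g : G) (n : N) :
    detChar (conjFun N g⁻¹ θ) n = ((g • δ) n : ℂ) := by
  rw [conjFun_eq_comp]
  show detChar (θ ∘ (MulAut.conjNormal g⁻¹ : MulAut N).toMonoidHom) n = _
  rw [detChar_comp _ hθ]
  exact hδ _

theorem inertia_le_stabilizer [Finite G] {θ : N → ℂ} (hθ : IsCharacter N θ) {δ : ↥N →* ℂˣ}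
    (hδ : ∀ n, detChar θ n = (δ n : ℂ)) (k : ℕ) :
    inertia N θ ≤ MulAction.stabilizer G (δ ^ k) := by
  intro g hg
  rw [MulAction.mem_stabilizer_iff, smul_pow]
  congr 1
  refine MonoidHom.ext fun n => Units.ext ?_
  rw [← smul_det hθ hδ g n, show conjFun N g⁻¹ θ = θ from (mem_inertia_iff N).mp (inv_mem hg), hδ]

/-- The hub divides the degree. -/
theorem hub_dvd [Fintype G] [Fintype N] {r : ℕ} [hr : Fact r.Prime] {χ : G → ℂ}
    (hχ : IsIrrCharacter G χ) {θ : N → ℂ} (hθ : IsIrrCharacter N θ)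
    (hc : classInner (fun n : N => χ n) θ ≠ 0) {δ : ↥N →* ℂˣ}
    (hδ : ∀ n, detChar θ n = (δ n : ℂ)) {k a : ℕ} (hk : ∀ μ : ↥N →* ℂˣ, (μ ^ k) ^ r ^ a = 1) :
    hub r (δ ^ k) ∣ charDegree χ := by
  classical
  have hχc := IsIrrCharacter.isCharacter hχ
  have hθc := IsIrrCharacter.isCharacter hθ
  obtain ⟨e, he⟩ := IsCharacter.exists_classInner_nat (IsCharacter.restrict hχc N) hθc
  have hdeg : charDegree χ = e * (inertia N θ).index * charDegree θ := by
    have h := degree_eq N hχ hθ hc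
    rw [he, BlockHeights.apply_one_eq_charDegree hχc, BlockHeights.apply_one_eq_charDegree hθc] at h
    exact_mod_cast h
  by_cases hE : Ext r (δ ^ k)
  · rw [hub_of_ext hE, hdeg]
    exact Dvd.dvd.mul_right (Dvd.dvd.mul_left
      (Subgroup.index_dvd_of_le (inertia_le_stabilizer hθc hδ k)) _) _
  rw [hub_of_not hE]
  by_contra hndvd
  apply hE
  let R : Sylow r G := default
  set H := N ⊔ (R : Subgroup G) with hH
  haveI := Fintype.ofFinite H
  have hNH : N ≤ H := le_sup_left
  obtain ⟨η, hη, hηd⟩ := exists_constituent_not_dvd (p := r)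
    (IsCharacter.restrict hχc H) (d := charDegree χ)
    (BlockHeights.apply_one_eq_charDegree hχc) hndvd
  set N' := N.subgroupOf H
  haveI := Fintype.ofFinite N'
  have hηc := irr_isCharacter η
  have hres : IsCharacter N' (fun m : N' => (η : H → ℂ) m) := IsCharacter.restrict hηc N'
  obtain ⟨φ, hφ⟩ := IsCharacter.exists_constituent (G := N') hres (fun h0 => by
    have h1 := congrFun h0 1
    simp only [OneMemClass.coe_one, Pi.zero_apply] at h1
    exact IsIrrCharacter.apply_one_ne_zero η.2 h1)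
  -- `φ` is invariant in `H`
  obtain ⟨e', he'⟩ := IsCharacter.exists_classInner_nat hres (irr_isCharacter φ)
  have hdegη : charDegree (η : H → ℂ) =
      e' * (inertia N' (φ : N' → ℂ)).index * charDegree (φ : N' → ℂ) := by
    have h := degree_eq N' η.2 φ.2 hφ
    rw [he', BlockHeights.apply_one_eq_charDegree hηc,
      BlockHeights.apply_one_eq_charDegree (irr_isCharacter φ)] at h
    exact_mod_cast h
  have hinv : inertia N' (φ : N' → ℂ) = ⊤ := by
    rw [← Subgroup.index_eq_one]
    obtain ⟨c, hc'⟩ := IsPGroup.iff_card.mp R.isPGroup'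
    have h1 : (inertia N' (φ : N' → ℂ)).index ∣ r ^ c := by
      refine (Subgroup.index_dvd_of_le (le_inertia N' (irr_isClassFunction φ))).trans ?_
      show N.relIndex H ∣ r ^ c
      rw [hH, sup_comm, Subgroup.relIndex_sup_right, ← hc']
      exact Subgroup.relIndex_dvd_card _ _
    obtain ⟨j, -, hj⟩ := (Nat.dvd_prime_pow hr.out).mp h1
    rcases j with _ | j
    · simpa using hj
    · refine absurd ?_ hηd
      rw [hdegη, hj]
      exact Dvd.dvd.mul_right (Dvd.dvd.mul_left (dvd_pow_self r (Nat.succ_ne_zero j)) _) _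
  have hre : ¬ r ∣ e' := fun hd => hηd (hdegη ▸ Dvd.dvd.mul_right (Dvd.dvd.mul_right hd _) _)
  have hrest := restrict_eq_smul_of_invariant N' η.2 φ.2
    (fun g => (mem_inertia_iff N').mp (hinv ▸ Subgroup.mem_top g)) hφ
  rw [he'] at hrest
  -- transport to `N`
  set eN : N' ≃* N := Subgroup.subgroupOfEquivOfLe hNH
  set ψ : N → ℂ := (φ : N' → ℂ) ∘ eN.symm
  have hψ : IsIrrCharacter N ψ := IsIrrCharacter.comp_equiv φ.2 eN.symm
  have hψres : ∀ n : N, (η : H → ℂ) (Subgroup.inclusion hNH n) = (e' : ℂ) * ψ n := fun n => by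
    have h := congrFun hrest (eN.symm n)
    simp only [Pi.smul_apply, smul_eq_mul] at h
    exact h
  -- `ψ` is a conjugate of `θ`
  have hcψ : classInner (fun n : N => χ n) ψ ≠ 0 := by
    have hψc := IsIrrCharacter.isCharacter hψ
    obtain ⟨χ₁, hχ₁, hdec⟩ := IsCharacter.exists_add_of_classInner_ne_zero
      (IsCharacter.restrict hχc H) η.2 hη
    have h1 : (fun n : N => χ n) =
        ((η : H → ℂ) ∘ Subgroup.inclusion hNH) + (χ₁ ∘ Subgroup.inclusion hNH) := by
      funext n
      exact congrFun hdec (Subgroup.inclusion hNH n)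
    rw [h1]
    refine IsCharacter.classInner_ne_zero_of_add (IsCharacter.comp hηc _) (IsCharacter.comp hχ₁ _) hψc ?_
    rw [show ((η : H → ℂ) ∘ Subgroup.inclusion hNH) = (e' : ℂ) • ψ from funext hψres,
      classInner_smul_left, IsIrrCharacter.classInner_self hψ, mul_one]
    exact_mod_cast fun h0 : e' = 0 => hre (h0 ▸ dvd_zero r)
  obtain ⟨g, hg⟩ := exists_conjFun_eq N hχ hθ hψ hc hcψ
  -- the determinant of `η`
  obtain ⟨ω, hω⟩ := Harada.exists_detChar_hom hηc
  have hωN : ∀ n : N, ω (Subgroup.inclusion hNH n) = ((g⁻¹ • δ) n) ^ e' := fun n => by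
    refine Units.ext ?_
    have h1 := congrFun (detChar_comp (Subgroup.inclusion hNH) hηc) n
    rw [show ((η : H → ℂ) ∘ Subgroup.inclusion hNH) = (e' : ℂ) • ψ from funext hψres,
      Harada.detChar_natCast_smul (IsIrrCharacter.isCharacter hψ), ← hg] at h1
    have h2 := smul_det hθc hδ g⁻¹ n
    rw [inv_inv] at h2
    rw [h2, Function.comp_apply, hω] at h1
    rw [Units.val_pow_eq_pow_val]
    exact h1.symm
  -- undo the exponent
  obtain ⟨f, -, hf⟩ := Nat.exists_mul_mod_eq_one_of_coprime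
    (k := r ^ (a + 1)) (n := e') (((hr.out.coprime_iff_not_dvd).mpr hre).symm.pow_right _)
    (Nat.one_lt_pow (Nat.succ_ne_zero a) hr.out.one_lt)
  have hE' : Ext r (g⁻¹ • (δ ^ k)) := by
    refine ⟨R, ω ^ (k * f), fun n => ?_⟩
    rw [MonoidHom.pow_apply, hωN, smul_pow, MonoidHom.pow_apply]
    set z := (g⁻¹ • δ) n
    have hz : (z ^ k) ^ r ^ (a + 1) = 1 := by
      rw [pow_succ, pow_mul]
      have := DFunLike.congr_fun (hk (g⁻¹ • δ)) n
      simp only [MonoidHom.pow_apply, MonoidHom.one_apply] at this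
      rw [this, one_pow]
    rw [← pow_mul, show e' * (k * f) = k * (e' * f) by ring, pow_mul,
      ← Nat.mod_add_div (e' * f) (r ^ (a + 1)), hf, pow_add, pow_one, pow_mul, hz, one_pow, mul_one]
  have := hE'.smul g
  rwa [smul_inv_smul] at this

/-- There is a character over any character of `N`. -/
theorem exists_over [Fintype G] [Fintype N] {θ : N → ℂ} (hθ : IsIrrCharacter N θ) :
    ∃ χ : IrrCharacter G, classInner (fun n : N => (χ : G → ℂ) n) θ ≠ 0 := by
  have hθc := IsIrrCharacter.isCharacter hθ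
  have hne : indFun N θ ≠ 0 := fun h => by
    have h1 := classInner_indFun_restrict N hθ hθ
    rw [show (fun n : N => indFun N θ n) = 0 from funext fun n => congrFun h n] at h1
    haveI : Nonempty {x : G // conjFun N x θ = θ} := ⟨⟨1, conjFun_one N θ⟩⟩
    have h2 : classInner (0 : N → ℂ) θ = 0 := by simp [classInner]
    rw [h2, eq_comm, div_eq_zero_iff] at h1
    rcases h1 with h1 | h1
    · exact Nat.card_pos.ne' (Nat.cast_eq_zero.mp h1)
    · exact (Nat.card_pos (α := N)).ne' (Nat.cast_eq_zero.mp h1)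
  obtain ⟨χ, hχ⟩ := IsCharacter.exists_constituent (IsCharacter.indFun N hθc) hne
  refine ⟨χ, ?_⟩
  rw [classInner_indFun N θ (irr_isClassFunction χ), ← classInner_conj_symm] at hχ
  exact fun h => hχ (by rw [h, map_zero])

/-- If two extendible linear characters have coprime orbit lengths, the orbit length of their
product shares a prime with both. -/
theorem orbit_not_coprime [Finite G] {r : ℕ} [hr : Fact r.Prime] {ν μ : ↥N →* ℂˣ} {a : ℕ}
    (hμr : μ ^ r ^ a = 1) (hν : Ext r ν)
    (hc : (MulAction.stabilizer G ν).index.Coprime (MulAction.stabilizer G μ).index)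
    (hμc : (MulAction.stabilizer G μ).index ≠ 1) :
    ¬ Nat.Coprime (MulAction.stabilizer G (ν * μ)).index (MulAction.stabilizer G μ).index := by
  classical
  intro hcc
  set I := MulAction.stabilizer G ν with hI
  set J := MulAction.stabilizer G μ with hJ
  set K := MulAction.stabilizer G (ν * μ) with hK
  have hIK : I ⊓ J ≤ K := fun x hx => by
    rw [hK, MulAction.mem_stabilizer_iff, smul_mul, MulAction.mem_stabilizer_iff.mp hx.1,
      MulAction.mem_stabilizer_iff.mp hx.2]
  have hidx := Solvable.index_inf_of_coprime hc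
  have hKI : K.index ∣ I.index :=
    hcc.dvd_of_dvd_mul_right (hidx ▸ Subgroup.index_dvd_of_le hIK)
  -- `G = I J`
  have hIJ : ∀ g : G, ∃ i ∈ I, ∃ j ∈ J, g = i * j := by
    have h1 := Solvable.Products.card_mul_set_mul_card_inf I J
    have h2 : Nat.card ↥((I : Set G) * (J : Set G)) = Nat.card G := by
      refine Nat.eq_of_mul_eq_mul_right (Nat.mul_pos (Nat.card_pos (α := ↥(I ⊓ J)))
        (Nat.pos_of_ne_zero (Subgroup.index_ne_zero_of_finite (H := I ⊓ J)))) ?_
      rw [← mul_assoc, h1, Subgroup.card_mul_index, hidx]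
      calc Nat.card I * Nat.card J * (I.index * J.index)
          = (Nat.card I * I.index) * (Nat.card J * J.index) := by ring
        _ = Nat.card G * Nat.card G := by rw [I.card_mul_index, J.card_mul_index]
    intro g
    have hg : g ∈ (I : Set G) * (J : Set G) := by
      rw [Set.eq_of_subset_of_ncard_le (t := Set.univ) (s := (I : Set G) * (J : Set G)) (Set.subset_univ _)
        (by rw [Set.ncard_univ, ← h2, Nat.card_coe_set_eq]) (Set.finite_univ)]
      trivial
    obtain ⟨i, hi, j, hj, rfl⟩ := hg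
    exact ⟨i, hi, j, hj, rfl⟩
  -- adding a conjugate of `μ` maps the orbit of `ν` onto the orbit of the product
  let O := MulAction.orbit G ν
  let O₃ := MulAction.orbit G (ν * μ)
  haveI : Finite ↥O := Finite.Set.finite_range _
  haveI : Finite ↥O₃ := Finite.Set.finite_range _
  have hmem : ∀ (h : G), ∀ φ ∈ O, φ * (h • μ) ∈ O₃ := by
    rintro h _ ⟨g, rfl⟩
    obtain ⟨i, hi, j, hj, hij⟩ := hIJ (g⁻¹ * h)
    refine ⟨g * i, ?_⟩
    show (g * i) • (ν * μ) = g • ν * h • μ
    have e : h = g * i * j := by rw [mul_assoc, ← hij, mul_inv_cancel_left]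
    rw [smul_mul, mul_smul, MulAction.mem_stabilizer_iff.mp hi]
    conv_rhs => rw [e, mul_smul, MulAction.mem_stabilizer_iff.mp hj]
  have hbij : ∀ h : G, Function.Bijective fun φ : ↥O => (⟨φ.1 * (h • μ), hmem h _ φ.2⟩ : ↥O₃) := by
    intro h
    refine (Nat.bijective_iff_injective_and_card _).mpr ⟨fun x y hxy => Subtype.ext
      (mul_right_cancel (congrArg Subtype.val hxy)), ?_⟩
    refine le_antisymm (Nat.card_le_card_of_injective
      (fun φ : ↥O => (⟨φ.1 * (h • μ), hmem h _ φ.2⟩ : ↥O₃))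
      fun x y hxy => Subtype.ext (mul_right_cancel (congrArg Subtype.val hxy))) ?_
    rw [Nat.card_coe_set_eq, Nat.card_coe_set_eq, ← MulAction.index_stabilizer,
      ← MulAction.index_stabilizer]
    exact Nat.le_of_dvd (Nat.pos_of_ne_zero Subgroup.index_ne_zero_of_finite) hKI
  apply hμc
  rw [Subgroup.index_eq_one, eq_top_iff]
  intro h _
  rw [MulAction.mem_stabilizer_iff]
  -- the translation by `τ` permutes the orbit
  set τ := (h • μ) * μ⁻¹ with hτ
  let e₁ := Equiv.ofBijective _ (hbij h)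
  let e₂ := Equiv.ofBijective _ (hbij 1)
  let σ : ↥O ≃ ↥O := e₁.trans e₂.symm
  have hσ : ∀ φ : ↥O, (σ φ).1 = φ.1 * τ := fun φ => by
    have h1 : e₂ (σ φ) = e₁ φ := e₂.apply_symm_apply _
    have h2 : (σ φ).1 * ((1 : G) • μ) = φ.1 * (h • μ) := congrArg Subtype.val h1
    rw [one_smul] at h2
    rw [hτ]
    calc (σ φ).1 = (σ φ).1 * μ * μ⁻¹ := (mul_inv_cancel_right (σ φ).1 μ).symm
      _ = φ.1 * (h • μ) * μ⁻¹ := congrArg (· * μ⁻¹) h2
      _ = φ.1 * ((h • μ) * μ⁻¹) := mul_assoc φ.1 (h • μ) μ⁻¹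
  haveI := Fintype.ofFinite ↥O
  have hp : (∏ φ : ↥O, φ.1) * τ ^ Fintype.card ↥O = ∏ φ : ↥O, φ.1 := by
    conv_rhs => rw [← Equiv.prod_comp σ (fun φ : ↥O => φ.1)]
    simp only [hσ, Finset.prod_mul_distrib, Finset.prod_const, Finset.card_univ]
  have hτ1 : τ ^ Fintype.card ↥O = 1 := by
    refine MonoidHom.ext fun n => ?_
    have h3 := DFunLike.congr_fun hp n
    rw [MonoidHom.mul_apply] at h3
    exact mul_eq_left.mp h3
  have hτr : τ ^ r ^ a = 1 := by
    refine MonoidHom.ext fun n => ?_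
    show ((h • μ) n * (μ n)⁻¹) ^ r ^ a = 1
    rw [mul_pow, inv_pow, smul_apply]
    have h4 : ∀ m : N, μ m ^ r ^ a = 1 := fun m => DFunLike.congr_fun hμr m
    rw [h4, h4, inv_one, mul_one]
  have hcop : Nat.Coprime (Fintype.card ↥O) (r ^ a) := by
    rw [← Nat.card_eq_fintype_card, Nat.card_coe_set_eq, ← MulAction.index_stabilizer]
    refine Nat.Coprime.pow_right _ ((hr.out.coprime_iff_not_dvd).mpr fun hd => ?_).symm
    obtain ⟨R, ω, hω⟩ := hν
    refine R.not_dvd_index (hd.trans (Subgroup.index_dvd_of_le fun x hx => ?_))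
    rw [MulAction.mem_stabilizer_iff]
    refine MonoidHom.ext fun n => ?_
    rw [smul_apply, ← hω, ← hω]
    set y : ↥(N ⊔ (R : Subgroup G)) := ⟨x, Subgroup.mem_sup_right hx⟩
    rw [show Subgroup.inclusion le_sup_left ((MulAut.conjNormal x⁻¹ : MulAut N) n) =
      y⁻¹ * Subgroup.inclusion le_sup_left n * y from Subtype.ext (by simp [y]), map_mul, map_mul,
      map_inv]
    rw [mul_comm, ← mul_assoc, mul_inv_cancel, one_mul]
  have : τ = 1 := MonoidHom.ext fun n =>
    Harada.eq_one_of_pow_eq_one hcop (DFunLike.congr_fun hτ1 n) (DFunLike.congr_fun hτr n)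
  refine MonoidHom.ext fun n => ?_
  have h5 : (h • μ) n * (μ n)⁻¹ = 1 := DFunLike.congr_fun this n
  exact mul_inv_eq_one.mp h5

end Cfsg.Agent.Lib.RelDegree
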