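import Mathlib
import Cfsg.Agent.Lib.RelDegree.Hub
import Cfsg.Statements.S4776

/-!
# The common-divisor graph on relative character degrees
-/

set_option autoImplicit false

namespace Cfsg.Agent.Lib.RelDegree

open Cfsg Cfsg.Agent.Lib.Characters

universe u

variable {G : Type u} [Group G] {N : Subgroup G}

/-- The exponent of the `r`-part. -/
noncomputable def rExp (N : Subgroup G) (r : ℕ) : ℕ :=
  r ^ (Nat.card N).factorization r

theorem lin_pow_card [Finite G] (μ : ↥N →* ℂˣ) (n : N) : μ n ^ Nat.card N = 1 := by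
  rw [← map_pow, pow_card_eq_one', map_one]

/-- The exponent projecting linear characters to their `r`-part. -/
theorem exists_part [Finite G] (N : Subgroup G) (r : ℕ) [hr : Fact r.Prime] :
    ∃ k, (∀ μ : ↥N →* ℂˣ, (μ ^ k) ^ rExp N r = 1) ∧
      (∀ μ : ↥N →* ℂˣ, μ ^ rExp N r = 1 → μ ^ k = μ) ∧
      (∀ z : ℂˣ, z ^ rExp N r = 1 → z ^ k = z) ∧
      ∀ s : ℕ, s.Prime → s ≠ r → ∀ μ : ↥N →* ℂˣ, μ ^ rExp N s = 1 → μ ^ k = 1 := by
  set m' := Nat.card N / r ^ (Nat.card N).factorization r with hm'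
  have hmul : r ^ (Nat.card N).factorization r * m' = Nat.card N :=
    Nat.ordProj_mul_ordCompl_eq_self _ _
  have hcop : Nat.Coprime (rExp N r) m' :=
    (((hr.out).coprime_iff_not_dvd).mpr (Nat.not_dvd_ordCompl hr.out Nat.card_pos.ne')).pow_left _
  obtain ⟨k, hk1, hk2⟩ := Nat.chineseRemainder hcop 1 0
  obtain ⟨j, hj⟩ : m' ∣ k := Nat.modEq_zero_iff_dvd.mp hk2
  have hz : ∀ z : ℂˣ, z ^ rExp N r = 1 → z ^ k = z := fun z hz => by
    rw [pow_eq_pow_mod k hz, hk1, ← pow_eq_pow_mod 1 hz, pow_one]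
  refine ⟨k, fun μ => ?_, fun μ hμ => ?_, hz, fun s hs hne μ hμ => ?_⟩
  · refine MonoidHom.ext fun n => ?_
    rw [MonoidHom.pow_apply, MonoidHom.pow_apply, MonoidHom.one_apply, ← pow_mul, hj,
      show m' * j * rExp N r = (r ^ (Nat.card N).factorization r * m') * j by rw [rExp]; ring,
      hmul, pow_mul, lin_pow_card, one_pow]
  · refine MonoidHom.ext fun n => ?_
    rw [MonoidHom.pow_apply]
    exact hz _ (DFunLike.congr_fun hμ n)
  · refine MonoidHom.ext fun n => ?_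
    have hdvd : rExp N s ∣ k := by
      refine Dvd.dvd.trans ?_ (hj ▸ dvd_mul_right m' j)
      refine (((Nat.coprime_primes hs hr.out).mpr hne).pow ((Nat.card N).factorization s) ((Nat.card N).factorization r)).dvd_of_dvd_mul_left ?_
      rw [hmul]
      exact Nat.ordProj_dvd _ _
    obtain ⟨i, hi⟩ := hdvd
    rw [MonoidHom.pow_apply, MonoidHom.one_apply, hi, pow_mul]
    have := DFunLike.congr_fun hμ n
    rw [MonoidHom.pow_apply, MonoidHom.one_apply] at this
    rw [this, one_pow]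

/-- The index of the derived subgroup of `N` in `N`. -/
theorem relIndex_derived (N : Subgroup G) : ⁅N, N⁆.relIndex N = (commutator ↥N).index := by
  rw [← Subgroup.map_subtype_commutator]
  exact congrArg Subgroup.index (Subgroup.comap_map_eq_self_of_injective N.subtype_injective _)

theorem lin_pow_derived (μ : ↥N →* ℂˣ) (n : N) : μ n ^ ⁅N, N⁆.relIndex N = 1 := by
  rw [relIndex_derived, ← map_pow]
  exact MonoidHom.mem_ker.mp
    (Abelianization.commutator_subset_ker μ (Subgroup.pow_index_mem _ n))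

theorem rExp_eq [Finite G] {r : ℕ} (hr : r.Prime) (hd : r ∣ ⁅N, N⁆.relIndex N) :
    r ∣ rExp N r := by
  refine dvd_pow_self r (hr.factorization_pos_of_dvd Nat.card_pos.ne' (hd.trans ?_)).ne'
  rw [relIndex_derived]
  exact Subgroup.index_dvd_card _

/-- Nontrivial linear characters of `r`-power order exist for `r ∣ |N : N'|`. -/
theorem exists_lin [Finite G] {r : ℕ} (hr : r.Prime) (hd : r ∣ ⁅N, N⁆.relIndex N) :
    ∃ ν : ↥N →* ℂˣ, ν ^ rExp N r = 1 ∧ ν ≠ 1 := by
  haveI := Fact.mk hr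
  obtain ⟨k, hk, -, hz, -⟩ := exists_part N r
  have hcard : r ∣ Nat.card (Abelianization ↥N) := by
    rwa [relIndex_derived, Subgroup.index_eq_card] at hd
  obtain ⟨x, hx⟩ := exists_prime_orderOf_dvd_card' r hcard
  haveI : HasEnoughRootsOfUnity ℂ (Monoid.exponent (Abelianization ↥N)) := by
    haveI : NeZero ((Monoid.exponent (Abelianization ↥N)) : ℂ) :=
      ⟨Nat.cast_ne_zero.mpr Monoid.exponent_ne_zero_of_finite⟩
    infer_instance
  obtain ⟨φ, hφ⟩ := CommGroup.exists_apply_ne_one_of_hasEnoughRootsOfUnity (Abelianization ↥N) ℂ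
    (a := x) (fun e => hr.ne_one (by rw [← hx, e, orderOf_one]))
  refine ⟨(φ.comp Abelianization.of) ^ k, hk _, fun e => hφ ?_⟩
  obtain ⟨n, rfl⟩ := QuotientGroup.mk_surjective x
  have h1 := DFunLike.congr_fun e n
  rw [MonoidHom.pow_apply, MonoidHom.one_apply, MonoidHom.comp_apply] at h1
  obtain ⟨i, hi⟩ := rExp_eq hr hd
  have h2 : φ (Abelianization.of n) ^ rExp N r = 1 := by
    rw [hi, pow_mul, ← map_pow, ← hx]
    erw [pow_orderOf_eq_one]
    rw [map_one, one_pow]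
  rw [hz _ h2] at h1
  exact h1

/-- A nontrivial linear character has a nontrivial part at a prime divisor of `|N : N'|`. -/
theorem exists_part_ne_one [Finite G] {ω : ↥N →* ℂˣ} (hω : ω ≠ 1) :
    ∃ r : ℕ, r.Prime ∧ r ∣ ⁅N, N⁆.relIndex N ∧
      ∀ k, (∀ z : ℂˣ, z ^ rExp N r = 1 → z ^ k = z) → ω ^ k ≠ 1 := by
  obtain ⟨n, hn⟩ : ∃ n, ω n ≠ 1 := by
    by_contra h
    push Not at h
    exact hω (MonoidHom.ext h)
  obtain ⟨r, hr, hrd⟩ := Nat.exists_prime_and_dvd
    (show orderOf (ω n) ≠ 1 from fun e => hn (orderOf_eq_one_iff.mp e))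
  have hd := hrd.trans (orderOf_dvd_of_pow_eq_one (lin_pow_derived ω n))
  refine ⟨r, hr, hd, fun k hz e => ?_⟩
  set z := ω n
  have hz1 : z ^ k = 1 := DFunLike.congr_fun e n
  set w := z ^ (orderOf z / r)
  have hwo : orderOf w = r := by
    rw [orderOf_pow_orderOf_div (fun h0 => ?_) hrd]
    exact (orderOf_eq_zero_iff.mp h0) (isOfFinOrder_iff_pow_eq_one.mpr ⟨_, Nat.pos_of_ne_zero
      (by rw [relIndex_derived]; exact Subgroup.index_ne_zero_of_finite), lin_pow_derived ω n⟩)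
  have hw : w ^ rExp N r = 1 := orderOf_dvd_iff_pow_eq_one.mp (by rw [hwo]; exact rExp_eq hr hd)
  have := hz w hw
  rw [← pow_mul, mul_comm, pow_mul, hz1, one_pow] at this
  rw [← this, orderOf_one] at hwo
  exact hr.ne_one hwo.symm

/-- A constant irreducible character has degree one. -/
theorem degree_eq_one_of_const [Fintype N] {θ : N → ℂ} (hθ : IsIrrCharacter N θ)
    (hc : ∀ n, θ n = θ 1) : charDegree θ = 1 := by
  have h := IsIrrCharacter.classInner_self hθ
  have hd := BlockHeights.apply_one_eq_charDegree (IsIrrCharacter.isCharacter hθ)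
  have hN : ((Fintype.card N : ℕ) : ℂ) ≠ 0 := Nat.cast_ne_zero.mpr Fintype.card_ne_zero
  simp only [classInner, hc, hd, Complex.conj_natCast, Finset.sum_const, Finset.card_univ,
    nsmul_eq_mul, Nat.card_eq_fintype_card] at h
  rw [← mul_assoc, inv_mul_cancel₀ hN, one_mul] at h
  have h2 : charDegree θ * charDegree θ = 1 := by exact_mod_cast h
  exact Nat.eq_one_of_mul_eq_one_right h2

variable [N.Normal]

attribute [local instance] linAction

local notation "Γ" => Cfsg.commonDivisorGraph.induce (Cfsg.relCharDegrees N)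

/-- Two degrees with a common divisor greater than one are joined. -/
theorem reach_of_dvd (a b : ↥(relCharDegrees N)) {g : ℕ} (hg : 1 < g) (ha : g ∣ (a : ℕ))
    (hb : g ∣ (b : ℕ)) (hapos : 0 < (a : ℕ)) : SimpleGraph.Reachable Γ a b := by
  by_cases h : (a : ℕ) = b
  · rw [Subtype.ext h]
  · exact SimpleGraph.Adj.reachable (G := Γ)
      ⟨h, hg.trans_le (Nat.le_of_dvd (Nat.gcd_pos_of_pos_left _ hapos) (Nat.dvd_gcd ha hb))⟩

theorem pos_of_mem [Finite G] (a : ↥(relCharDegrees N)) : 0 < (a : ℕ) := by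
  obtain ⟨χ, -, hd⟩ := a.2
  rw [← hd]
  refine Nat.pos_of_ne_zero fun h0 => IsIrrCharacter.apply_one_ne_zero χ.2 ?_
  rw [BlockHeights.apply_one_eq_charDegree (irr_isCharacter χ), h0, Nat.cast_zero]

/-- Degrees over a non-constant character lie in the graph. -/
theorem mem_of_over [Fintype G] [Fintype N] {θ : N → ℂ} (hθ : IsIrrCharacter N θ)
    (hne : ∃ n, θ n ≠ θ 1) {χ : IrrCharacter G}
    (hc : classInner (fun n : N => (χ : G → ℂ) n) θ ≠ 0) :
    charDegree (χ : G → ℂ) ∈ relCharDegrees N := by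
  refine ⟨χ, ?_, rfl⟩
  by_contra hall
  push Not at hall
  obtain ⟨n, hn⟩ := hne
  refine hn (apply_eq_of_classInner_ne_zero (IsCharacter.restrict (irr_isCharacter χ) N) hθ hc ?_)
  simpa using hall n n.2

/-- A degree over a linear character. -/
theorem exists_lin_vertex [Fintype G] [Fintype N] {ω : ↥N →* ℂˣ} (hω : ω ≠ 1) :
    ∃ w : ↥(relCharDegrees N), (MulAction.stabilizer G ω).index ∣ (w : ℕ) ∧
      ∀ (r : ℕ) [Fact r.Prime] (k : ℕ), (∀ μ : ↥N →* ℂˣ, (μ ^ k) ^ rExp N r = 1) →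
        hub r (ω ^ k) ∣ (w : ℕ) := by
  have hθ : IsIrrCharacter N (fun n => (ω n : ℂ)) := isIrrCharacter_unitsHom ω
  obtain ⟨χ, hχ⟩ := exists_over (G := G) hθ
  have hne : ∃ n, (fun n => (ω n : ℂ)) n ≠ (fun n => (ω n : ℂ)) 1 := by
    by_contra h
    push Not at h
    exact hω (MonoidHom.ext fun n => Units.ext (by simpa using h n))
  have hδ : ∀ n, detChar (fun n => (ω n : ℂ)) n = (ω n : ℂ) := fun n =>
    congrFun (CharMisc.detChar_of_linear ω) n
  refine ⟨⟨_, mem_of_over hθ hne hχ⟩, ?_, fun r _ k hk => hub_dvd χ.2 hθ hχ hδ hk⟩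
  obtain ⟨e, he⟩ := IsCharacter.exists_classInner_nat
    (IsCharacter.restrict (irr_isCharacter χ) N) (IsIrrCharacter.isCharacter hθ)
  have h := degree_eq N χ.2 hθ hχ
  rw [he, BlockHeights.apply_one_eq_charDegree (irr_isCharacter χ)] at h
  simp only [map_one, Units.val_one, mul_one] at h
  have h' : charDegree (χ : G → ℂ) = e * (inertia N (fun n => (ω n : ℂ))).index := by
    exact_mod_cast h
  show _ ∣ charDegree (χ : G → ℂ)
  rw [h']
  refine Dvd.dvd.mul_left (Subgroup.index_dvd_of_le ?_) _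
  have h1 : ω ^ 1 = ω := MonoidHom.ext fun _ => by simp
  exact (inertia_le_stabilizer (IsIrrCharacter.isCharacter hθ) hδ 1).trans_eq (by rw [h1])

/-- Some member of the graph reachable from `u` is divisible by the hub. -/
def Near (u : ↥(relCharDegrees N)) (r : ℕ) (ν : ↥N →* ℂˣ) : Prop :=
  ∃ w : ↥(relCharDegrees N), hub r ν ∣ (w : ℕ) ∧ SimpleGraph.Reachable Γ u w

theorem reachable_of_near [Finite G] (hNG : N ≤ commutator G) {r : ℕ} [Fact r.Prime]
    {ν : ↥N →* ℂˣ} (hν : ν ^ rExp N r = 1) (h1 : ν ≠ 1) {u v : ↥(relCharDegrees N)}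
    (hu : Near u r ν) (hv : Near v r ν) : SimpleGraph.Reachable Γ u v := by
  obtain ⟨w, hw, hr⟩ := hu
  obtain ⟨w', hw', hr'⟩ := hv
  exact hr.trans ((reach_of_dvd w w' (one_lt_hub hNG hν h1) hw hw' (pos_of_mem w)).trans hr'.symm)

/-- Hubs at different primes are joined. -/
theorem near_of_near_ne [Fintype G] [Fintype N] (hNG : N ≤ commutator G) {r s : ℕ} [hr : Fact r.Prime]
    [hs : Fact s.Prime] (hne : r ≠ s) {ν μ : ↥N →* ℂˣ} (hν : ν ^ rExp N r = 1) (h1 : ν ≠ 1)
    (hμ : μ ^ rExp N s = 1) {u : ↥(relCharDegrees N)} (hu : Near u r ν) : Near u s μ := by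
  obtain ⟨k, hk, hk', -, hk''⟩ := exists_part N r
  obtain ⟨l, hl, hl', -, hl''⟩ := exists_part N s
  have e1 : (ν * μ) ^ k = ν := by
    refine MonoidHom.ext fun n => ?_
    have a1 := DFunLike.congr_fun (hk' ν hν) n
    have a2 := DFunLike.congr_fun (hk'' s hs.out (Ne.symm hne) μ hμ) n
    simp only [MonoidHom.pow_apply, MonoidHom.mul_apply, MonoidHom.one_apply] at a1 a2 ⊢
    rw [mul_pow, a1, a2, mul_one]
  have e2 : (ν * μ) ^ l = μ := by
    refine MonoidHom.ext fun n => ?_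
    have a1 := DFunLike.congr_fun (hl' μ hμ) n
    have a2 := DFunLike.congr_fun (hl'' r hr.out hne ν hν) n
    simp only [MonoidHom.pow_apply, MonoidHom.mul_apply, MonoidHom.one_apply] at a1 a2 ⊢
    rw [mul_pow, a1, a2, one_mul]
  have hω : ν * μ ≠ 1 := fun e => h1 (by rw [← e1, e]; exact MonoidHom.ext fun _ => by simp)
  obtain ⟨w, -, hw⟩ := exists_lin_vertex (G := G) hω
  have a := hw r k hk
  have b := hw s l hl
  rw [e1] at a
  rw [e2] at b
  obtain ⟨w', hw', hr'⟩ := hu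
  exact ⟨w, b, hr'.trans (reach_of_dvd w' w (one_lt_hub hNG hν h1) hw' a (pos_of_mem w'))⟩

/-- Extendible hubs at one prime are joined. -/
theorem near_of_near_ext [Fintype G] [Fintype N] (hNG : N ≤ commutator G) {r : ℕ} [hr : Fact r.Prime]
    {ν μ : ↥N →* ℂˣ} (hν : ν ^ rExp N r = 1) (h1 : ν ≠ 1) (hνE : Ext r ν)
    (hμ : μ ^ rExp N r = 1) (h2 : μ ≠ 1) (hμE : Ext r μ) {u : ↥(relCharDegrees N)}
    (hu : Near u r ν) : Near u r μ := by
  obtain ⟨k, hk, hk', -, -⟩ := exists_part N r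
  have a1 := one_lt_hub hNG hν h1
  have a2 := one_lt_hub hNG hμ h2
  obtain ⟨w2, -, hw2⟩ := exists_lin_vertex (G := G) h2
  have hb := hw2 r k hk
  rw [hk' μ hμ] at hb
  obtain ⟨w1, hw1, hr1⟩ := hu
  refine ⟨w2, hb, hr1.trans ?_⟩
  rw [hub_of_ext hνE] at a1 hw1
  rw [hub_of_ext hμE] at a2 hb
  by_cases hc : (MulAction.stabilizer G ν).index.Coprime (MulAction.stabilizer G μ).index
  swap
  · refine reach_of_dvd w1 w2 ?_ ((Nat.gcd_dvd_left _ _).trans hw1) ((Nat.gcd_dvd_right _ _).trans hb)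
      (pos_of_mem w1)
    exact lt_of_le_of_ne (Nat.one_le_iff_ne_zero.mpr
      (Nat.gcd_ne_zero_left (by omega))) (Ne.symm hc)
  have hω : ν * μ ≠ 1 := fun e => by
    have e' : μ = ν⁻¹ := MonoidHom.ext fun n =>
      (eq_inv_of_mul_eq_one_right (DFunLike.congr_fun e n : ν n * μ n = 1))
    have hst : MulAction.stabilizer G μ = MulAction.stabilizer G ν := by
      ext g
      rw [MulAction.mem_stabilizer_iff, MulAction.mem_stabilizer_iff, e', smul_inv]
      exact inv_inj (G := ↥N →* ℂˣ)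
    rw [hst, Nat.coprime_self] at hc
    omega
  obtain ⟨w3, hw3, -⟩ := exists_lin_vertex (G := G) hω
  have n2 := orbit_not_coprime hμ hνE hc (by omega)
  have n1 := orbit_not_coprime (ν := μ) (μ := ν) hν hμE hc.symm (by omega)
  rw [mul_comm μ ν] at n1
  have g1 : ∀ {x y : ℕ}, y ≠ 0 → ¬ Nat.Coprime x y → 1 < Nat.gcd x y := fun {x y} hy hn =>
    lt_of_le_of_ne (Nat.one_le_iff_ne_zero.mpr (Nat.gcd_ne_zero_right hy)) (Ne.symm hn)
  exact (reach_of_dvd w1 w3 (g1 (by omega) n1) ((Nat.gcd_dvd_right _ _).trans hw1)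
      ((Nat.gcd_dvd_left _ _).trans hw3) (pos_of_mem w1)).trans
    (reach_of_dvd w3 w2 (g1 (by omega) n2) ((Nat.gcd_dvd_left _ _).trans hw3)
      ((Nat.gcd_dvd_right _ _).trans hb) (pos_of_mem w3))

/-- A degree not divisible by all primes of `|N : N'|` is near a hub. -/
theorem exists_near [Fintype G] [Fintype N] (hNG : N ≤ commutator G) (u : ↥(relCharDegrees N))
    {r : ℕ} [hr : Fact r.Prime] (hu : ¬ r ∣ (u : ℕ)) :
    (∀ μ : ↥N →* ℂˣ, μ ^ rExp N r = 1 → μ ≠ 1 → Near u r μ) ∨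
    ∃ (s : ℕ) (ν : ↥N →* ℂˣ), s.Prime ∧ s ∣ ⁅N, N⁆.relIndex N ∧ ν ^ rExp N s = 1 ∧ ν ≠ 1 ∧
      Near u s ν ∧ (s = r → Ext r ν) := by
  classical
  obtain ⟨χ, hχN, hχd⟩ := u.2
  have hχc := irr_isCharacter χ
  obtain ⟨θ, hθ⟩ := IsCharacter.exists_constituent (G := ↥N) (IsCharacter.restrict hχc N) (fun h0 => by
    have h1 := congrFun h0 1
    simp only [OneMemClass.coe_one, Pi.zero_apply] at h1
    exact IsIrrCharacter.apply_one_ne_zero χ.2 h1)
  have hθc := irr_isCharacter θ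
  have hne : ∃ n, (θ : ↥N → ℂ) n ≠ (θ : ↥N → ℂ) 1 := by
    by_contra h
    push Not at h
    have hinv : ∀ g : G, conjFun N g (θ : ↥N → ℂ) = θ := fun g =>
      funext fun n => by rw [conjFun, h, h n]
    have hrest := restrict_eq_smul_of_invariant N χ.2 θ.2 hinv hθ
    obtain ⟨x, hx, hx'⟩ := hχN
    apply hx'
    have b1 := congrFun hrest ⟨x, hx⟩
    have b2 := congrFun hrest 1
    simp only [OneMemClass.coe_one, Pi.smul_apply] at b1 b2
    rw [b1, b2, h]
  obtain ⟨δ, hδ⟩ := exists_det hθc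
  obtain ⟨k, hk, hk', hz, -⟩ := exists_part N r
  set d := charDegree (θ : ↥N → ℂ) with hdd
  have hd0 : (θ : ↥N → ℂ) 1 = (d : ℂ) := BlockHeights.apply_one_eq_charDegree hθc
  obtain ⟨e, he⟩ := IsCharacter.exists_classInner_nat (IsCharacter.restrict hχc N) hθc
  have hdu : d ∣ (u : ℕ) := by
    have h := degree_eq N χ.2 θ.2 hθ
    rw [he, BlockHeights.apply_one_eq_charDegree hχc, hd0, hχd] at h
    have h' : (u : ℕ) = e * (inertia N (θ : ↥N → ℂ)).index * d := by exact_mod_cast h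
    exact h' ▸ dvd_mul_left _ _
  by_cases hd : d = 1
  · -- a linear constituent
    right
    obtain ⟨ω, hω⟩ := IsCharacter.exists_hom_of_apply_one hθc (by rw [hd0, hd, Nat.cast_one])
    have hδω : δ = ω := MonoidHom.ext fun n => Units.ext (by
      rw [← hδ, hω]
      exact congrFun (CharMisc.detChar_of_linear ω) n)
    have hω1 : δ ≠ 1 := by
      rintro rfl
      obtain ⟨n, hn⟩ := hne
      rw [hω, ← hδω] at hn
      exact hn (by simp)
    by_cases hr1 : δ ^ k = 1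
    · obtain ⟨s, hs, hsd, hsk⟩ := exists_part_ne_one hω1
      haveI := Fact.mk hs
      obtain ⟨l, hl, -, hlz, -⟩ := exists_part N s
      refine ⟨s, δ ^ l, hs, hsd, hl δ, hsk l hlz,
        ⟨u, hχd ▸ hub_dvd χ.2 θ.2 hθ hδ hl, SimpleGraph.Reachable.refl _⟩, fun e' => ?_⟩
      subst e'
      exact absurd hr1 (hsk k hz)
    · have hub' : hub r (δ ^ k) ∣ (u : ℕ) := hχd ▸ hub_dvd χ.2 θ.2 hθ hδ hk
      have hE : Ext r (δ ^ k) := by
        by_contra hE
        rw [hub_of_not hE] at hub'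
        exact hu hub'
      obtain ⟨n, hn⟩ : ∃ n, (δ n) ^ k ≠ 1 := by
        by_contra h
        push Not at h
        exact hr1 (MonoidHom.ext h)
      refine ⟨r, δ ^ k, hr.out, ?_, hk δ, hr1, ⟨u, hub', SimpleGraph.Reachable.refl _⟩, fun _ => hE⟩
      have h1 : orderOf (δ n ^ k) ∣ rExp N r :=
        orderOf_dvd_of_pow_eq_one (DFunLike.congr_fun (hk δ) n)
      obtain ⟨j, -, hj⟩ := (Nat.dvd_prime_pow hr.out).mp h1
      have hj0 : j ≠ 0 := fun h0 => hn (orderOf_eq_one_iff.mp (by rw [hj, h0, pow_zero]))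
      exact (dvd_pow_self r hj0).trans (hj ▸ orderOf_dvd_of_pow_eq_one (by
        rw [← pow_mul, mul_comm, pow_mul, lin_pow_derived, one_pow]))
  · -- twisting reaches every hub at `r`
    left
    intro μ hμ hμ1
    have hrd : ¬ r ∣ d := fun h => hu (h.trans hdu)
    have hdpos : d ≠ 0 := fun h0 => hrd (h0 ▸ dvd_zero r)
    obtain ⟨f, -, hf⟩ := Nat.exists_mul_mod_eq_one_of_coprime
      (k := r ^ ((Nat.card N).factorization r + 1)) (n := d)
      (((hr.out.coprime_iff_not_dvd).mpr hrd).symm.pow_right _)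
      (Nat.one_lt_pow (Nat.succ_ne_zero _) hr.out.one_lt)
    set lam : ↥N →* ℂˣ := (μ * (δ ^ k)⁻¹) ^ f with hlam
    have hθ' : IsIrrCharacter N (fun n => (lam n : ℂ) * (θ : ↥N → ℂ) n) := isIrrCharacter_twist lam θ.2
    have hδ' : ∀ n, detChar (fun n => (lam n : ℂ) * (θ : ↥N → ℂ) n) n = (((lam ^ d) * δ) n : ℂ) := fun n => by
      rw [congrFun (detChar_twist lam hθc hd0) n, hδ]
      simp
    have hkey : (lam ^ d * δ) ^ k = μ := by
      refine MonoidHom.ext fun n => ?_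
      simp only [hlam, MonoidHom.pow_apply, MonoidHom.mul_apply, MonoidHom.inv_apply]
      set z := μ n * (δ n ^ k)⁻¹ with hzdef
      have hz' : z ^ rExp N r = 1 := by
        have x1 : μ n ^ rExp N r = 1 := DFunLike.congr_fun hμ n
        have x2 : (δ n ^ k) ^ rExp N r = 1 := DFunLike.congr_fun (hk δ) n
        rw [hzdef, mul_pow, inv_pow, x1, x2, inv_one, mul_one]
      have e1 : (z ^ f) ^ d = z := by
        have hz'' : z ^ r ^ ((Nat.card N).factorization r + 1) = 1 := by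
          rw [pow_succ, pow_mul]
          show (z ^ rExp N r) ^ r = 1
          rw [hz', one_pow]
        rw [← pow_mul, mul_comm f d, pow_eq_pow_mod _ hz'', hf, pow_one]
      rw [e1, mul_pow, hz z hz', hzdef, inv_mul_cancel_right]
    obtain ⟨χ', hχ'⟩ := exists_over (G := G) hθ'
    have hd' : charDegree (fun n => (lam n : ℂ) * (θ : ↥N → ℂ) n) = d :=
      charDegree_eq_of_apply_one (by simp [hd0])
    have hne' : ∃ n, (fun n => (lam n : ℂ) * (θ : ↥N → ℂ) n) n ≠ (fun n => (lam n : ℂ) * (θ : ↥N → ℂ) n) 1 := by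
      by_contra h
      push Not at h
      exact hd (hd' ▸ degree_eq_one_of_const hθ' h)
    let w : ↥(relCharDegrees N) := ⟨_, mem_of_over hθ' hne' hχ'⟩
    refine ⟨w, hkey ▸ hub_dvd χ'.2 hθ' hχ' hδ' hk, ?_⟩
    refine reach_of_dvd u w (g := d) (by omega) hdu ?_ (pos_of_mem u)
    obtain ⟨e', he'⟩ := IsCharacter.exists_classInner_nat
      (IsCharacter.restrict (irr_isCharacter χ') N) (IsIrrCharacter.isCharacter hθ')
    have h := degree_eq N χ'.2 hθ' hχ'
    rw [he', BlockHeights.apply_one_eq_charDegree (irr_isCharacter χ'),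
      BlockHeights.apply_one_eq_charDegree (IsIrrCharacter.isCharacter hθ'), hd'] at h
    have h' : charDegree (χ' : G → ℂ) =
        e' * (inertia N (fun n => (lam n : ℂ) * (θ : ↥N → ℂ) n)).index * d := by exact_mod_cast h
    show d ∣ charDegree (χ' : G → ℂ)
    rw [h']
    exact dvd_mul_left d _

/-- Two degrees, neither divisible by all primes of `|N : N'|`, are joined. -/
theorem reachable_of_not_full [Finite G] (hNG : N ≤ commutator G) (u v : ↥(relCharDegrees N))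
    {r r' : ℕ} (hr : r.Prime) (hr' : r'.Prime) (hd : r ∣ ⁅N, N⁆.relIndex N)
    (hd' : r' ∣ ⁅N, N⁆.relIndex N) (hu : ¬ r ∣ (u : ℕ)) (hv : ¬ r' ∣ (v : ℕ)) :
    SimpleGraph.Reachable Γ u v := by
  classical
  haveI := Fintype.ofFinite G
  haveI := Fintype.ofFinite N
  haveI := Fact.mk hr
  haveI := Fact.mk hr'
  by_cases hall : ∀ s : ℕ, s.Prime → s ∣ ⁅N, N⁆.relIndex N → s = r
  · obtain rfl : r' = r := hall r' hr' hd'
    obtain ⟨ν₀, hν₀, hν₀1⟩ := exists_lin (N := N) hr hd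
    rcases exists_near hNG u hu with A | ⟨s, ν, hs, hsd, hν, hν1, hnu, hE⟩ <;>
    rcases exists_near hNG v hv with B | ⟨t, μ, ht, htd, hμ, hμ1, hnv, hE'⟩
    · exact reachable_of_near hNG hν₀ hν₀1 (A _ hν₀ hν₀1) (B _ hν₀ hν₀1)
    · obtain rfl := hall t ht htd
      exact reachable_of_near hNG hμ hμ1 (A _ hμ hμ1) hnv
    · obtain rfl := hall s hs hsd
      exact reachable_of_near hNG hν hν1 hnu (B _ hν hν1)
    · obtain rfl := hall s hs hsd
      obtain rfl := hall t ht htd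
      exact reachable_of_near hNG hμ hμ1 (near_of_near_ext hNG hν hν1 (hE rfl) hμ hμ1 (hE' rfl) hnu) hnv
  · push Not at hall
    obtain ⟨s₀, hs₀, hs₀d, hs₀r⟩ := hall
    have some_hub : ∀ (x : ↥(relCharDegrees N)) (a : ℕ) [Fact a.Prime],
        a ∣ ⁅N, N⁆.relIndex N → ¬ a ∣ (x : ℕ) →
        ∃ (s : ℕ) (ν : ↥N →* ℂˣ), s.Prime ∧ s ∣ ⁅N, N⁆.relIndex N ∧ ν ^ rExp N s = 1 ∧ ν ≠ 1 ∧
          Near x s ν := by
      intro x a _ had hx
      rcases exists_near hNG x hx with A | ⟨s, ν, hs, hsd, hν, hν1, hn, -⟩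
      · obtain ⟨ν, hν, hν1⟩ := exists_lin (N := N) (Fact.out : a.Prime) had
        exact ⟨a, ν, Fact.out, had, hν, hν1, A ν hν hν1⟩
      · exact ⟨s, ν, hs, hsd, hν, hν1, hn⟩
    obtain ⟨s, ν, hs, hsd, hν, hν1, hnu⟩ := some_hub u r hd hu
    obtain ⟨t, μ, ht, htd, hμ, hμ1, hnv⟩ := some_hub v r' hd' hv
    haveI := Fact.mk hs
    haveI := Fact.mk ht
    by_cases hst : s = t
    · subst hst
      obtain ⟨q, hq, hqd, hqs⟩ : ∃ q, q.Prime ∧ q ∣ ⁅N, N⁆.relIndex N ∧ q ≠ s := by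
        by_cases h : s = r
        · exact ⟨s₀, hs₀, hs₀d, h ▸ hs₀r⟩
        · exact ⟨r, hr, hd, Ne.symm h⟩
      haveI := Fact.mk hq
      obtain ⟨ρ, hρ, hρ1⟩ := exists_lin (N := N) hq hqd
      exact reachable_of_near hNG hμ hμ1
        (near_of_near_ne hNG hqs hρ hρ1 hμ (near_of_near_ne hNG (Ne.symm hqs) hν hν1 hρ hnu)) hnv
    · exact reachable_of_near hNG hμ hμ1 (near_of_near_ne hNG hst hν hν1 hμ hnu) hnv

end Cfsg.Agent.Lib.RelDegree
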